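import Mathlib

/-! Base change of the component meeting the generic fibre. -/

set_option autoImplicit false
set_option backward.isDefEq.respectTransparency false
universe u
open CategoryTheory CategoryTheory.Limits AlgebraicGeometry

namespace Groth.Agent.H06Comp

theorem isPullback_map_left {C X₀ Y₀ Y : Scheme.{u}} (i : C ⟶ X₀) (f : X₀ ⟶ Y₀) (g : Y ⟶ Y₀)
    (e₁ : (i ≫ f) ≫ 𝟙 Y₀ = i ≫ f) (e₂ : g ≫ 𝟙 Y₀ = 𝟙 Y ≫ g) :
    IsPullback (pullback.fst (i ≫ f) g) (pullback.map (i ≫ f) g f g i (𝟙 Y) (𝟙 Y₀) e₁ e₂) i (pullback.fst f g) := by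
  refine IsPullback.of_bot ?_ (by simp) (IsPullback.of_hasPullback f g)
  have h : pullback.map (i ≫ f) g f g i (𝟙 Y) (𝟙 Y₀) e₁ e₂ ≫ pullback.snd f g = pullback.snd (i ≫ f) g := by simp
  rw [h]
  exact IsPullback.of_hasPullback (i ≫ f) g

theorem isIso_map_of_generic {X₀ Y₀ Y : Scheme.{u}} [IsIntegral Y₀] [IsIntegral Y]
    (g : Y ⟶ Y₀) [IsDominant g] (f₀ : X₀ ⟶ Y₀)
    (hirr : IsIrreducible (f₀.base ⁻¹' {genericPoint Y₀})) {C : Scheme.{u}} (i : C ⟶ X₀) [IsClosedImmersion i]
    (hC : Set.range i ∈ irreducibleComponents (X₀ : Type u))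
    (hCη : (Set.range i ∩ f₀.base ⁻¹' {genericPoint Y₀}).Nonempty) [IsIntegral (pullback f₀ g)]
    (e₁ : (i ≫ f₀) ≫ 𝟙 Y₀ = i ≫ f₀) (e₂ : g ≫ 𝟙 Y₀ = 𝟙 Y ≫ g) :
    IsIso (pullback.map (i ≫ f₀) g f₀ g i (𝟙 Y) (𝟙 Y₀) e₁ e₂) := by
  set m := pullback.map (i ≫ f₀) g f₀ g i (𝟙 Y) (𝟙 Y₀) e₁ e₂
  have hpb := isPullback_map_left i f₀ g e₁ e₂
  haveI : IsClosedImmersion m := MorphismProperty.of_isPullback hpb ‹_›
  set η := genericPoint Y₀
  -- the generic fibre is contained in the component
  have hsub : f₀.base ⁻¹' {η} ⊆ Set.range i := by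
    obtain ⟨θ, hθ⟩ := QuasiSober.sober hirr.closure isClosed_closure
    obtain ⟨w, hwC, hwη⟩ := hCη
    obtain ⟨γ, hγ⟩ := QuasiSober.sober hC.1 i.isClosedEmbedding.isClosed_range
    have h1 : θ ⤳ w := hθ.specializes (subset_closure hwη)
    have h2 : γ ⤳ w := hγ.specializes hwC
    have hγη : f₀ γ = η := by
      have h3 : f₀ γ ⤳ η := (show f₀ w = η from hwη) ▸ h2.map f₀.continuous
      exact h3.antisymm (genericPoint_specializes _) |>.eq
    have h4 : closure (f₀.base ⁻¹' {η}) ⊆ Set.range i := by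
      refine le_trans ?_ (hC.2 hirr.closure ?_)
      · exact le_rfl
      · rw [← hγ.def]
        exact closure_mono (Set.singleton_subset_iff.2 hγη)
    exact subset_closure.trans h4
  obtain ⟨x₀, hx₀C, hx₀⟩ := hCη
  have hgη : g (genericPoint Y) = η := by
    refine ((genericPoint_specializes (g (genericPoint Y))).antisymm ?_).eq.symm
    refine specializes_iff_mem_closure.2 ?_
    have h1 : closure (g '' closure {genericPoint Y}) ⊆ closure {g (genericPoint Y)} := by
      refine closure_minimal ((image_closure_subset_closure_image g.continuous).trans ?_) isClosed_closure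
      rw [Set.image_singleton]
    refine h1 ?_
    rw [(genericPoint_spec Y).def, Set.image_univ, g.denseRange.closure_eq]
    trivial
  obtain ⟨z, hz1, hz2⟩ := Scheme.exists_preimage_of_isPullback (IsPullback.of_hasPullback f₀ g) x₀
    (genericPoint Y) ((show f₀ x₀ = η from hx₀).trans hgη.symm)
  have hgen : pullback.fst f₀ g (genericPoint ↥(pullback f₀ g)) ∈ Set.range i := by
    apply hsub
    have h1 : f₀ (pullback.fst f₀ g (genericPoint ↥(pullback f₀ g))) ⤳ η := by
      have := ((genericPoint_specializes z).map (pullback.fst f₀ g).continuous).map f₀.continuous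
      erw [hz1] at this
      exact (show f₀ x₀ = η from hx₀) ▸ this
    exact (h1.antisymm (genericPoint_specializes _)).eq
  haveI : Surjective m := by
    refine ⟨fun w => ?_⟩
    have hw : pullback.fst f₀ g w ∈ Set.range i :=
      ((genericPoint_specializes w).map (pullback.fst f₀ g).continuous).mem_closed
        i.isClosedEmbedding.isClosed_range hgen
    obtain ⟨c, hc⟩ := hw
    obtain ⟨p, -, hp⟩ := Scheme.exists_preimage_of_isPullback hpb c w hc
    exact ⟨p, hp⟩
  exact isIso_of_isClosedImmersion_of_surjective m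

end Groth.Agent.H06Comp
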